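import Cfsg.Agent.Lib.AutPSL.Roots

/-!
The two elementary abelian subgroups of order 16 of the unitriangular group of `L₃(4)` and their
normalizers.
-/

set_option autoImplicit false
set_option linter.unusedSectionVars false

namespace Cfsg.Agent.Perm.L34Cover

open Matrix Cfsg.Agent.AutPSL.Roots Cfsg.Agent.AutPSL.Basic

variable {F : Type*} [Field F] [Fintype F]

/-- the line `L₃(F)` -/
local notation "SL3" => Matrix.SpecialLinearGroup (Fin 3) F
local notation "PSL3" => Matrix.ProjectiveSpecialLinearGroup (Fin 3) F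
local notation "U3" => (unitri (n := 3) (F := F))

/-- row elements -/
def rowE (a c : F) : SL3 := ⟨!![1, a, c; 0, 1, 0; 0, 0, 1], by simp [Matrix.det_fin_three]⟩

/-- column elements -/
def colE (b c : F) : SL3 := ⟨!![1, 0, c; 0, 1, b; 0, 0, 1], by simp [Matrix.det_fin_three]⟩

theorem rowE_coe (a c : F) :
    (rowE a c : Matrix (Fin 3) (Fin 3) F) = !![1, a, c; 0, 1, 0; 0, 0, 1] := rfl

theorem colE_coe (b c : F) :
    (colE b c : Matrix (Fin 3) (Fin 3) F) = !![1, 0, c; 0, 1, b; 0, 0, 1] := rfl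

theorem rowE_mul (a c a' c' : F) : rowE a c * rowE a' c' = rowE (a + a') (c + c') := by
  refine Subtype.ext ?_
  ext i j
  fin_cases i <;> fin_cases j <;> simp [rowE_coe, Matrix.SpecialLinearGroup.coe_mul, Matrix.mul_apply, Fin.sum_univ_three, add_comm]

theorem colE_mul (b c b' c' : F) : colE b c * colE b' c' = colE (b + b') (c + c') := by
  refine Subtype.ext ?_
  ext i j
  fin_cases i <;> fin_cases j <;> simp [colE_coe, Matrix.SpecialLinearGroup.coe_mul, Matrix.mul_apply, Fin.sum_univ_three, add_comm]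

theorem rowE_zero : rowE (0 : F) 0 = 1 := by
  refine Subtype.ext ?_
  ext i j
  fin_cases i <;> fin_cases j <;> simp [rowE_coe]

theorem colE_zero : colE (0 : F) 0 = 1 := by
  refine Subtype.ext ?_
  ext i j
  fin_cases i <;> fin_cases j <;> simp [colE_coe]

/-- the projection of the row elements -/
def rowHom : Multiplicative (F × F) →* PSL3 :=
  (QuotientGroup.mk' _).comp (MonoidHom.mk'
    (fun x : Multiplicative (F × F) => rowE x.toAdd.1 x.toAdd.2) fun x y => by
      simp [rowE_mul, toAdd_mul])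

/-- the projection of the column elements -/
def colHom : Multiplicative (F × F) →* PSL3 :=
  (QuotientGroup.mk' _).comp (MonoidHom.mk'
    (fun x : Multiplicative (F × F) => colE x.toAdd.1 x.toAdd.2) fun x y => by
      simp [colE_mul, toAdd_mul])

/-- the rows -/
def rowG : Subgroup PSL3 := (rowHom (F := F)).range

/-- the columns -/
def colG : Subgroup PSL3 := (colHom (F := F)).range

theorem mem_rowG {x : PSL3} : x ∈ rowG ↔ ∃ a c, x = QuotientGroup.mk (rowE a c) := by
  constructor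
  · rintro ⟨y, rfl⟩; exact ⟨y.toAdd.1, y.toAdd.2, rfl⟩
  · rintro ⟨a, c, rfl⟩; exact ⟨Multiplicative.ofAdd (a, c), rfl⟩

theorem mem_colG {x : PSL3} : x ∈ colG ↔ ∃ b c, x = QuotientGroup.mk (colE b c) := by
  constructor
  · rintro ⟨y, rfl⟩; exact ⟨y.toAdd.1, y.toAdd.2, rfl⟩
  · rintro ⟨b, c, rfl⟩; exact ⟨Multiplicative.ofAdd (b, c), rfl⟩

theorem rowE_mem (a c : F) : rowE a c ∈ unitriSL (n := 3) (F := F) := by
  constructor
  · intro i j h
    fin_cases i <;> fin_cases j <;> first | rfl | exact absurd h (by decide)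
  · intro i; fin_cases i <;> rfl

theorem colE_mem (b c : F) : colE b c ∈ unitriSL (n := 3) (F := F) := by
  constructor
  · intro i j h
    fin_cases i <;> fin_cases j <;> first | rfl | exact absurd h (by decide)
  · intro i; fin_cases i <;> rfl

theorem mk_row_eq_one {a c : F} (h : (QuotientGroup.mk (rowE a c) : PSL3) = 1) : a = 0 ∧ c = 0 := by
  have := mk_injOn _ _ (rowE_mem a c) (one_mem _) 0 h
  exact ⟨congrFun (congrFun (congrArg Subtype.val this) 0) 1,
    congrFun (congrFun (congrArg Subtype.val this) 0) 2⟩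

theorem rowHom_injective : Function.Injective (rowHom (F := F)) := by
  rw [injective_iff_map_eq_one]
  intro x hx
  obtain ⟨h1, h2⟩ := mk_row_eq_one (a := x.toAdd.1) (c := x.toAdd.2) hx
  exact Multiplicative.toAdd.injective (Prod.ext h1 h2)

theorem colHom_injective : Function.Injective (colHom (F := F)) := by
  rw [injective_iff_map_eq_one]
  intro x hx
  have := mk_injOn (colE x.toAdd.1 x.toAdd.2) _ (colE_mem _ _) (one_mem _) 0 hx
  exact Multiplicative.toAdd.injective (Prod.ext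
    (congrFun (congrFun (congrArg Subtype.val this) 1) 2)
    (congrFun (congrFun (congrArg Subtype.val this) 0) 2))

theorem card_rowG (hF : Fintype.card F = 4) : Nat.card (rowG (F := F)) = 16 := by
  rw [rowG, ← Nat.card_congr (MonoidHom.ofInjective rowHom_injective).toEquiv]
  simp [Nat.card_eq_fintype_card, hF]

theorem card_colG (hF : Fintype.card F = 4) : Nat.card (colG (F := F)) = 16 := by
  rw [colG, ← Nat.card_congr (MonoidHom.ofInjective colHom_injective).toEquiv]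
  simp [Nat.card_eq_fintype_card, hF]

theorem unitri_decomp {s : SL3} (hs : s ∈ unitriSL (n := 3) (F := F)) :
    s = colE ((s : Matrix (Fin 3) (Fin 3) F) 1 2) 0 *
      rowE ((s : Matrix (Fin 3) (Fin 3) F) 0 1) ((s : Matrix (Fin 3) (Fin 3) F) 0 2) := by
  refine Subtype.ext ?_
  ext i j
  have h1 := hs.1
  have h2 := hs.2
  fin_cases i <;> fin_cases j <;>
    simp [rowE_coe, colE_coe, Matrix.SpecialLinearGroup.coe_mul, Matrix.mul_apply, Fin.sum_univ_three, h1, h2]

theorem unitri_eq_sup : U3 = rowG ⊔ colG := by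
  refine le_antisymm ?_ (sup_le ?_ ?_)
  · rintro _ ⟨s, hs, rfl⟩
    rw [unitri_decomp hs, map_mul]
    exact Subgroup.mul_mem _ (Subgroup.mem_sup_right (mem_colG.2 ⟨_, _, rfl⟩))
      (Subgroup.mem_sup_left (mem_rowG.2 ⟨_, _, rfl⟩))
  · intro x hx
    obtain ⟨a, c, rfl⟩ := mem_rowG.1 hx
    exact ⟨_, rowE_mem a c, rfl⟩
  · intro x hx
    obtain ⟨b, c, rfl⟩ := mem_colG.1 hx
    exact ⟨_, colE_mem b c, rfl⟩

theorem row_inf_col {x : PSL3} (h1 : x ∈ rowG) (h2 : x ∈ colG) :
    ∃ c : F, x = QuotientGroup.mk (rowE 0 c) := by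
  obtain ⟨a, c, rfl⟩ := mem_rowG.1 h1
  obtain ⟨b, c', h⟩ := mem_colG.1 h2
  have := mk_injOn _ _ (rowE_mem a c) (colE_mem b c') 0 h
  have ha : a = 0 := congrFun (congrFun (congrArg Subtype.val this) 0) 1
  exact ⟨c, by rw [ha]⟩

theorem unitri_square [CharP F 2] {s : SL3} (hs : s ∈ unitriSL (n := 3) (F := F)) (h : s * s = 1) :
    (s : Matrix (Fin 3) (Fin 3) F) 0 1 = 0 ∨ (s : Matrix (Fin 3) (Fin 3) F) 1 2 = 0 := by
  have := congrFun (congrFun (congrArg Subtype.val h) 0) 2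
  have h1 := hs.1
  have h2 := hs.2
  change ((s : Matrix (Fin 3) (Fin 3) F) * (s : Matrix (Fin 3) (Fin 3) F)) 0 2 = (1 : Matrix (Fin 3) (Fin 3) F) 0 2 at this
  rw [Matrix.mul_apply, Fin.sum_univ_three] at this
  simp [h2] at this
  have hadd := CharTwo.add_self_eq_zero ((s : Matrix (Fin 3) (Fin 3) F) 0 2)
  apply mul_eq_zero.1
  linear_combination this - hadd

theorem mk_unitri_mem {s : SL3} (hs : s ∈ unitriSL (n := 3) (F := F)) :
    ((s : Matrix (Fin 3) (Fin 3) F) 1 2 = 0 → (QuotientGroup.mk s : PSL3) ∈ rowG) ∧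
      ((s : Matrix (Fin 3) (Fin 3) F) 0 1 = 0 → (QuotientGroup.mk s : PSL3) ∈ colG) := by
  constructor
  · intro h
    refine mem_rowG.2 ⟨(s : Matrix (Fin 3) (Fin 3) F) 0 1, (s : Matrix (Fin 3) (Fin 3) F) 0 2, ?_⟩
    conv_lhs => rw [unitri_decomp hs, h, colE_zero, one_mul]
  · intro h
    refine mem_colG.2 ⟨(s : Matrix (Fin 3) (Fin 3) F) 1 2, (s : Matrix (Fin 3) (Fin 3) F) 0 2, ?_⟩
    congr 1
    refine Subtype.ext ?_
    ext i j
    have h1 := hs.1
    have h2 := hs.2
    fin_cases i <;> fin_cases j <;> simp [colE_coe, h1, h2, h]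

/-- an involution of the unitriangular group is in a row or column group -/
theorem involution_mem [CharP F 2] {x : PSL3} (hx : x ∈ U3) (h : x * x = 1) :
    x ∈ rowG ∨ x ∈ colG := by
  obtain ⟨s, hs, rfl⟩ := hx
  have h' : s * s = 1 := mk_injOn _ _ (mul_mem hs hs) (one_mem _) 0 h
  rcases unitri_square hs h' with h0 | h0
  · exact Or.inr ((mk_unitri_mem hs).2 h0)
  · exact Or.inl ((mk_unitri_mem hs).1 h0)

/-- the elementary abelian subgroups of order 16 -/
theorem eq_row_or_col [CharP F 2] (hF : Fintype.card F = 4) {A : Subgroup PSL3} (hA : A ≤ U3)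
    (hcomm : ∀ x ∈ A, ∀ y ∈ A, x * y = y * x) (hsq : ∀ x ∈ A, x * x = 1)
    (hcard : Nat.card A = 16) : A = rowG ∨ A = colG := by
  have hmem : ∀ x ∈ A, x ∈ rowG ∨ x ∈ colG := fun x hx => involution_mem (hA hx) (hsq x hx)
  have key : A ≤ rowG ∨ A ≤ colG := by
    by_contra h
    push Not at h
    obtain ⟨⟨x, hxA, hx⟩, ⟨y, hyA, hy⟩⟩ := And.intro (Set.not_subset.1 h.1) (Set.not_subset.1 h.2)
    obtain ⟨b, c, rfl⟩ := mem_colG.1 ((hmem x hxA).resolve_left hx)
    obtain ⟨a, c', rfl⟩ := mem_rowG.1 ((hmem y hyA).resolve_right hy)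
    have hcm := hcomm _ hxA _ hyA
    have h1 : colE b c * rowE a c' = rowE a c' * colE b c :=
      mk_injOn _ _ (mul_mem (colE_mem _ _) (rowE_mem _ _)) (mul_mem (rowE_mem _ _) (colE_mem _ _)) 0 hcm
    have h2 := congrFun (congrFun (congrArg Subtype.val h1) 0) 2
    simp [rowE_coe, colE_coe, Matrix.SpecialLinearGroup.coe_mul, Matrix.mul_apply, Fin.sum_univ_three] at h2
    have h3 : a * b = 0 := by linear_combination -h2
    rcases mul_eq_zero.1 h3 with e | e
    · exact hy (mem_colG.2 ⟨0, c', by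
        congr 1; refine Subtype.ext ?_
        ext i j; fin_cases i <;> fin_cases j <;> simp [rowE_coe, colE_coe, e]⟩)
    · exact hx (mem_rowG.2 ⟨0, c, by
        congr 1; refine Subtype.ext ?_
        ext i j; fin_cases i <;> fin_cases j <;> simp [rowE_coe, colE_coe, e]⟩)
  rcases key with h | h
  · exact Or.inl (Subgroup.eq_of_le_of_card_ge h (by rw [card_rowG hF, hcard]))
  · exact Or.inr (Subgroup.eq_of_le_of_card_ge h (by rw [card_colG hF, hcard]))

/-! ### the complement -/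

/-- the block embedding -/
def blockHom : Matrix.SpecialLinearGroup (Fin 2) F →* SL3 :=
  MonoidHom.mk' (fun M => ⟨!![1, 0, 0; 0, (M : Matrix (Fin 2) (Fin 2) F) 0 0, (M : Matrix (Fin 2) (Fin 2) F) 0 1;
      0, (M : Matrix (Fin 2) (Fin 2) F) 1 0, (M : Matrix (Fin 2) (Fin 2) F) 1 1], by
        have h := M.2
        rw [Matrix.det_fin_two] at h
        simp [Matrix.det_fin_three]
        linear_combination h⟩) fun M N => by
    refine Subtype.ext ?_
    ext i j
    fin_cases i <;> fin_cases j <;>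
      change _ = (!![1, 0, 0; 0, (M : Matrix (Fin 2) (Fin 2) F) 0 0, (M : Matrix (Fin 2) (Fin 2) F) 0 1;
        0, (M : Matrix (Fin 2) (Fin 2) F) 1 0, (M : Matrix (Fin 2) (Fin 2) F) 1 1] *
        !![1, 0, 0; 0, (N : Matrix (Fin 2) (Fin 2) F) 0 0, (N : Matrix (Fin 2) (Fin 2) F) 0 1;
        0, (N : Matrix (Fin 2) (Fin 2) F) 1 0, (N : Matrix (Fin 2) (Fin 2) F) 1 1]) _ _ <;>
      simp [Matrix.SpecialLinearGroup.coe_mul, Matrix.mul_apply, Fin.sum_univ_three, Fin.sum_univ_two]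

theorem blockHom_coe (M : Matrix.SpecialLinearGroup (Fin 2) F) :
    (blockHom M : Matrix (Fin 3) (Fin 3) F) = !![1, 0, 0; 0, (M : Matrix (Fin 2) (Fin 2) F) 0 0,
      (M : Matrix (Fin 2) (Fin 2) F) 0 1; 0, (M : Matrix (Fin 2) (Fin 2) F) 1 0,
      (M : Matrix (Fin 2) (Fin 2) F) 1 1] := rfl

/-- the projected block embedding -/
def blockPSL : Matrix.SpecialLinearGroup (Fin 2) F →* PSL3 :=
  (QuotientGroup.mk' _).comp blockHom

theorem blockPSL_injective : Function.Injective (blockPSL (F := F)) := by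
  rw [injective_iff_map_eq_one]
  intro M hM
  obtain ⟨c, hc⟩ := (mk_eq_mk_iff 1 (blockHom M)).1 hM.symm
  have e : ∀ i j, (blockHom M : Matrix (Fin 3) (Fin 3) F) i j =
      c * (1 : Matrix (Fin 3) (Fin 3) F) i j := by
    intro i j; rw [hc]; rfl
  have hc1 : c = 1 := by
    have := e 0 0
    simp [blockHom_coe] at this
    exact this.symm
  refine Subtype.ext ?_
  ext i j
  fin_cases i <;> fin_cases j
  · simpa [blockHom_coe, hc1] using e 1 1
  · simpa [blockHom_coe, hc1] using e 1 2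
  · simpa [blockHom_coe, hc1] using e 2 1
  · simpa [blockHom_coe, hc1] using e 2 2

theorem block_conj (M : Matrix.SpecialLinearGroup (Fin 2) F) (a c : F) :
    rowE a c * blockHom M = blockHom M *
      rowE (a * (M : Matrix (Fin 2) (Fin 2) F) 0 0 + c * (M : Matrix (Fin 2) (Fin 2) F) 1 0)
        (a * (M : Matrix (Fin 2) (Fin 2) F) 0 1 + c * (M : Matrix (Fin 2) (Fin 2) F) 1 1) := by
  refine Subtype.ext ?_
  ext i j
  fin_cases i <;> fin_cases j <;>
    simp [blockHom_coe, rowE_coe, Matrix.SpecialLinearGroup.coe_mul, Matrix.mul_apply, Fin.sum_univ_three] <;> ring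

theorem block_normalizes : (blockPSL (F := F)).range ≤ Subgroup.normalizer (rowG (F := F) : Set PSL3) := by
  have key : ∀ (M : Matrix.SpecialLinearGroup (Fin 2) F), ∀ x ∈ rowG, (blockPSL M)⁻¹ * x * blockPSL M ∈ rowG := by
    intro M x hx
    obtain ⟨a, c, rfl⟩ := mem_rowG.1 hx
    rw [mul_assoc]
    refine mem_rowG.2 ⟨a * (M : Matrix (Fin 2) (Fin 2) F) 0 0 + c * (M : Matrix (Fin 2) (Fin 2) F) 1 0,
      a * (M : Matrix (Fin 2) (Fin 2) F) 0 1 + c * (M : Matrix (Fin 2) (Fin 2) F) 1 1, ?_⟩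
    change (QuotientGroup.mk' _ (blockHom M))⁻¹ * (QuotientGroup.mk' _ (rowE a c) *
      QuotientGroup.mk' _ (blockHom M)) = _
    rw [← map_mul, block_conj, map_mul, inv_mul_cancel_left]
    rfl
  rintro _ ⟨M, rfl⟩
  rw [Subgroup.mem_normalizer_iff]
  intro x
  constructor
  · intro hx
    have := key M⁻¹ x hx
    rwa [map_inv, inv_inv] at this
  · intro hx
    have := key M _ hx
    simpa [mul_assoc] using this

theorem block_inf_row : (blockPSL (F := F)).range ⊓ rowG = ⊥ := by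
  rw [eq_bot_iff]
  rintro x ⟨⟨M, rfl⟩, hx⟩
  obtain ⟨a, c, h⟩ := mem_rowG.1 hx
  obtain ⟨k, hk⟩ := (mk_eq_mk_iff (rowE a c) (blockHom M)).1 h.symm
  have e : ∀ i j, (blockHom M : Matrix (Fin 3) (Fin 3) F) i j =
      k * (rowE a c : Matrix (Fin 3) (Fin 3) F) i j := by
    intro i j; rw [hk]; rfl
  have h00 := e 0 0
  simp [blockHom_coe, rowE_coe] at h00
  subst h00
  have : M = 1 := by
    refine Subtype.ext ?_
    ext i j
    fin_cases i <;> fin_cases j
    · simpa [blockHom_coe, rowE_coe] using e 1 1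
    · simpa [blockHom_coe, rowE_coe] using e 1 2
    · simpa [blockHom_coe, rowE_coe] using e 2 1
    · simpa [blockHom_coe, rowE_coe] using e 2 2
  rw [this, map_one]
  exact one_mem _

theorem row_transitive {a c : F} (h : a ≠ 0 ∨ c ≠ 0) :
    ∃ g ∈ Subgroup.normalizer (rowG (F := F) : Set PSL3),
      g * (QuotientGroup.mk (rowE 0 1)) * g⁻¹ = (QuotientGroup.mk (rowE a c) : PSL3) := by
  obtain ⟨M, h10, h11⟩ : ∃ M : Matrix.SpecialLinearGroup (Fin 2) F,
      (M : Matrix (Fin 2) (Fin 2) F) 1 0 = a ∧ (M : Matrix (Fin 2) (Fin 2) F) 1 1 = c := by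
    by_cases hc : c = 0
    · have ha : a ≠ 0 := h.resolve_right (fun h' => h' hc)
      exact ⟨⟨!![0, -a⁻¹; a, c], by simp [Matrix.det_fin_two, ha]⟩, rfl, rfl⟩
    · exact ⟨⟨!![c⁻¹, 0; a, c], by simp [Matrix.det_fin_two, hc]⟩, rfl, rfl⟩
  refine ⟨(blockPSL M)⁻¹, inv_mem (block_normalizes ⟨M, rfl⟩), ?_⟩
  rw [inv_inv, mul_assoc]
  change (QuotientGroup.mk' _ (blockHom M))⁻¹ * (QuotientGroup.mk' _ (rowE 0 1) *
    QuotientGroup.mk' _ (blockHom M)) = _
  rw [← map_mul, block_conj, map_mul, inv_mul_cancel_left, h10, h11]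
  simp

theorem normalizer_row [CharP F 2] (hF : Fintype.card F = 4) :
    Subgroup.normalizer (rowG (F := F) : Set PSL3) ≤ rowG ⊔ (blockPSL (F := F)).range := by
  intro x hx
  obtain ⟨g, rfl⟩ := QuotientGroup.mk_surjective x
  set gm : Matrix (Fin 3) (Fin 3) F := (g : Matrix (Fin 3) (Fin 3) F) with hgm
  have hR : ∀ a c : F, ∃ a' c', g * rowE a c = rowE a' c' * g := by
    intro a c
    have h := (Subgroup.mem_normalizer_iff.1 hx _).1 (mem_rowG.2 ⟨a, c, rfl⟩)
    obtain ⟨a', c', h'⟩ := mem_rowG.1 h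
    rw [← QuotientGroup.mk_inv, ← QuotientGroup.mk_mul, ← QuotientGroup.mk_mul] at h'
    obtain ⟨k, hk⟩ := (mk_eq_mk_iff _ _).1 h'.symm
    have htr := congrArg Matrix.trace hk
    rw [Matrix.trace_smul] at htr
    have e1 : Matrix.trace ((g * rowE a c * g⁻¹ : SL3) : Matrix (Fin 3) (Fin 3) F) = 1 := by
      have hi : ((g⁻¹ : SL3) : Matrix (Fin 3) (Fin 3) F) * gm = 1 := by
        rw [hgm, ← Matrix.SpecialLinearGroup.coe_mul, inv_mul_cancel, Matrix.SpecialLinearGroup.coe_one]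
      rw [Matrix.SpecialLinearGroup.coe_mul, Matrix.trace_mul_comm,
        Matrix.SpecialLinearGroup.coe_mul, ← Matrix.mul_assoc, hi, Matrix.one_mul]
      simp [rowE_coe, Matrix.trace_fin_three]
      linear_combination CharTwo.add_self_eq_zero (1 : F)
    have e2 : Matrix.trace (rowE a' c' : Matrix (Fin 3) (Fin 3) F) = 1 := by
      simp [rowE_coe, Matrix.trace_fin_three]
      linear_combination CharTwo.add_self_eq_zero (1 : F)
    rw [e1, e2, smul_eq_mul, mul_one] at htr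
    rw [← htr, one_smul] at hk
    refine ⟨a', c', ?_⟩
    have := Subtype.ext hk (α := Matrix (Fin 3) (Fin 3) F) (p := fun A => A.det = 1)
    rw [← this, inv_mul_cancel_right]
  obtain ⟨a', c', hR'⟩ := hR 1 0
  have hc1 := fun i => congrFun (congrFun (congrArg Subtype.val hR') i) 1
  have hg10 : gm 1 0 = 0 := by
    have := hc1 1
    simpa [rowE_coe, Matrix.SpecialLinearGroup.coe_mul, Matrix.mul_apply, Fin.sum_univ_three, ← hgm] using this
  have hg20 : gm 2 0 = 0 := by
    have := hc1 2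
    simpa [rowE_coe, Matrix.SpecialLinearGroup.coe_mul, Matrix.mul_apply, Fin.sum_univ_three, ← hgm] using this
  have hdet : gm 0 0 * (gm 1 1 * gm 2 2 - gm 1 2 * gm 2 1) = 1 := by
    have h : gm.det = 1 := g.2
    rw [Matrix.det_fin_three, hg10, hg20] at h
    linear_combination h
  set l := gm 0 0 with hl
  have hl0 : l ≠ 0 := left_ne_zero_of_mul_eq_one hdet
  have hl3 : l⁻¹ ^ 3 = 1 := by
    have h := FiniteField.pow_card_sub_one_eq_one l⁻¹ (inv_ne_zero hl0)
    rwa [hF] at h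
  let M : Matrix.SpecialLinearGroup (Fin 2) F :=
    ⟨!![l⁻¹ * gm 1 1, l⁻¹ * gm 1 2; l⁻¹ * gm 2 1, l⁻¹ * gm 2 2], by
      rw [Matrix.det_fin_two]
      simp
      field_simp at hl3 ⊢
      linear_combination l ^ 2 * hdet + (gm 1 1 * gm 2 2 - gm 1 2 * gm 2 1) * hl3⟩
  have hMc : (M : Matrix (Fin 2) (Fin 2) F) =
      !![l⁻¹ * gm 1 1, l⁻¹ * gm 1 2; l⁻¹ * gm 2 1, l⁻¹ * gm 2 2] := rfl
  -- `g` is the scalar multiple of `blockHom M * rowE r`
  have hd : (g : Matrix (Fin 3) (Fin 3) F) =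
      l • ((blockHom M * rowE (l⁻¹ * gm 0 1) (l⁻¹ * gm 0 2) : SL3) : Matrix (Fin 3) (Fin 3) F) := by
    rw [← hgm]
    ext i j
    fin_cases i <;> fin_cases j <;>
      simp [blockHom_coe, rowE_coe, hMc, Matrix.SpecialLinearGroup.coe_mul, Matrix.mul_apply, Fin.sum_univ_three, hl0, hg10, hg20, ← hl]
  rw [← (mk_eq_mk_iff (blockHom M * rowE (l⁻¹ * gm 0 1) (l⁻¹ * gm 0 2)) g).2 ⟨l, hd⟩,
    QuotientGroup.mk_mul]
  exact Subgroup.mul_mem _ (Subgroup.mem_sup_right ⟨M, rfl⟩)
    (Subgroup.mem_sup_left (mem_rowG.2 ⟨_, _, rfl⟩))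

end Cfsg.Agent.Perm.L34Cover
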