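import Cfsg.Agent.Lib.Perm.L34Cover.Cover

/-!
A perfect central 2-extension of `L₃(4)` with elementary kernel has kernel of order at most 4.
-/

set_option autoImplicit false
set_option linter.unusedSectionVars false

namespace Cfsg.Agent.Perm.L34Cover

open Matrix Cfsg.Agent.AutPSL.Roots Cfsg.Agent.AutPSL.Basic
open scoped commutatorElement

variable {F : Type*} [Field F] [Fintype F] [CharP F 2]

local notation "SL3" => Matrix.SpecialLinearGroup (Fin 3) F
local notation "PSL3" => Matrix.ProjectiveSpecialLinearGroup (Fin 3) F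
local notation "U3" => (unitri (n := 3) (F := F))

theorem rowE_zero_eq_colE (c : F) : rowE (0 : F) c = colE 0 c := Subtype.ext rfl

theorem row_col_comm (s t : F) :
    rowE s 0 * colE t 0 = rowE 0 (s * t) * colE t 0 * rowE s 0 := by
  refine Subtype.ext ?_
  ext i j
  fin_cases i <;> fin_cases j <;>
    simp [rowE_coe, colE_coe, Matrix.SpecialLinearGroup.coe_mul, Matrix.mul_apply, Fin.sum_univ_three]

theorem four_cases (hF : Fintype.card F = 4) :
    ∃ w : F, w ≠ 0 ∧ ∀ s : F, s = 0 ∨ s = 1 ∨ s = w ∨ s = 1 + w := by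
  classical
  obtain ⟨w, -, hw⟩ := Finset.exists_mem_notMem_of_card_lt_card
    (s := ({0, 1} : Finset F)) (t := Finset.univ)
    (by rw [Finset.card_univ, hF]; exact lt_of_le_of_lt Finset.card_le_two (by norm_num))
  simp only [Finset.mem_insert, Finset.mem_singleton, not_or] at hw
  refine ⟨w, hw.1, fun s => ?_⟩
  have h1 : (1 : F) + w ≠ 0 := fun h => hw.2 (CharTwo.add_eq_zero.1 h).symm
  have hall : ({0, 1, w, 1 + w} : Finset F) = Finset.univ := by
    refine Finset.eq_univ_of_card _ ?_
    rw [hF, Finset.card_insert_of_notMem, Finset.card_insert_of_notMem,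
      Finset.card_insert_of_notMem, Finset.card_singleton]
    · simpa using hw.1
    · simp only [Finset.mem_insert, Finset.mem_singleton, not_or]
      exact ⟨fun h => hw.2 h.symm, fun h => hw.1 (by linear_combination -h)⟩
    · simp only [Finset.mem_insert, Finset.mem_singleton, not_or]
      exact ⟨zero_ne_one, fun h => hw.1 h.symm, fun h => h1 h.symm⟩
  have hs := Finset.mem_univ s
  rw [← hall] at hs
  simpa using hs

theorem card_iSup_zpowers_le {X : Type*} [Group X] [Finite X] {ι : Type*} [Fintype ι] (c : ι → X)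
    (hc : ∀ i, c i * c i = 1) (hcomm : ∀ i j, Commute (c i) (c j)) :
    Nat.card ↥(⨆ i, Subgroup.zpowers (c i)) ≤ 2 ^ Fintype.card ι := by
  classical
  let f : ∀ i, Subgroup.zpowers (c i) →* X := fun i => (Subgroup.zpowers (c i)).subtype
  have hf : Pairwise fun i j => ∀ x y, Commute (f i x) (f j y) := by
    intro i j _ x y
    obtain ⟨a, ha⟩ := Subgroup.mem_zpowers_iff.1 x.2
    obtain ⟨b, hb⟩ := Subgroup.mem_zpowers_iff.1 y.2
    change Commute (x : X) (y : X)
    rw [← ha, ← hb]
    exact ((hcomm i j).zpow_left a).zpow_right b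
  let g := MonoidHom.noncommPiCoprod f hf
  have hg : g.range = ⨆ i, Subgroup.zpowers (c i) := by
    rw [MonoidHom.noncommPiCoprod_range]
    simp [f]
  rw [← hg]
  refine (Nat.card_le_card_of_surjective g.rangeRestrict g.rangeRestrict_surjective).trans ?_
  rw [Nat.card_pi]
  refine (Finset.prod_le_pow_card Finset.univ _ 2 fun i _ => ?_)
  rw [Nat.card_zpowers]
  exact orderOf_le_of_pow_eq_one (by norm_num) (by rw [pow_two]; exact hc i)

variable {X : Type*} [Group X] [Finite X] {φ : X →* Matrix.ProjectiveSpecialLinearGroup (Fin 3) F}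

theorem card_center_le (hF : Fintype.card F = 4) (hφ : Function.Surjective φ)
    (hker : ∀ x, φ x = 1 ↔ x ∈ Subgroup.center X) (hZ : ∀ z ∈ Subgroup.center X, z * z = 1)
    (hperf : commutator X = ⊤) : Nat.card (Subgroup.center X) ≤ 4 := by
  classical
  haveI : Fact (Nat.Prime 2) := ⟨Nat.prime_two⟩
  obtain ⟨w, hw0, hw⟩ := four_cases hF
  let H : Subgroup X := (rowG (F := F)).comap φ
  let K : Subgroup X := (colG (F := F)).comap φ
  let R : Subgroup X := H ⊓ K
  have hH2 : ∀ x ∈ H, x * x = 1 := fun x hx => squares hφ hker hZ (nice_row hF) hx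
  have hK2 : ∀ x ∈ K, x * x = 1 := fun x hx => squares hφ hker hZ (nice_col hF) hx
  have hcommOf : ∀ L : Subgroup X, (∀ x ∈ L, x * x = 1) → ∀ x ∈ L, ∀ y ∈ L, Commute x y := by
    intro L hL x hx y hy
    have hi : ∀ t ∈ L, t⁻¹ = t := fun t ht => inv_eq_of_mul_eq_one_left (hL t ht)
    calc x * y = (x * y)⁻¹ := (hi _ (mul_mem hx hy)).symm
      _ = y * x := by rw [_root_.mul_inv_rev, hi x hx, hi y hy]
  have hHc := hcommOf H hH2
  have hKc := hcommOf K hK2
  obtain ⟨α, hα⟩ : ∃ α : Fin 2 → F, α = ![1, w] := ⟨_, rfl⟩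
  choose a ha using fun i => hφ (QuotientGroup.mk (rowE (α i) 0))
  choose b hb using fun i => hφ (QuotientGroup.mk (colE (α i) 0))
  have haH : ∀ i, a i ∈ H := fun i => mem_rowG.2 ⟨_, _, ha i⟩
  have hbK : ∀ i, b i ∈ K := fun i => mem_colG.2 ⟨_, _, hb i⟩
  have hR : ∀ x, ∀ t : F, φ x = QuotientGroup.mk (rowE 0 t) → x ∈ R := fun x t h =>
    ⟨mem_rowG.2 ⟨_, _, h⟩, mem_colG.2 ⟨0, t, by rw [h, rowE_zero_eq_colE]⟩⟩
  let S : Set X := (Set.range a ∪ Set.range b) ∪ (R : Set X)
  let T : Subgroup X := Subgroup.closure S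
  have hRT : R ≤ T := fun x hx => Subgroup.subset_closure (Or.inr hx)
  have haT : ∀ i, a i ∈ T := fun i => Subgroup.subset_closure (Or.inl (Or.inl ⟨i, rfl⟩))
  have hbT : ∀ i, b i ∈ T := fun i => Subgroup.subset_closure (Or.inl (Or.inr ⟨i, rfl⟩))
  have hHT : H ≤ T := by
    intro x hx
    obtain ⟨s, t, hst⟩ := mem_rowG.1 hx
    have step : ∀ y ∈ T, ∀ s' : F, φ y = QuotientGroup.mk (rowE s' 0) → s + s' = 0 → x ∈ T := by
      intro y hy s' hy' hs
      have : y * x ∈ R := hR _ t (by
        rw [map_mul, hy', hst, ← QuotientGroup.mk_mul, rowE_mul, zero_add, add_comm, hs])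
      simpa using mul_mem (inv_mem hy) (hRT this)
    rcases hw s with rfl | rfl | rfl | rfl
    · exact step 1 (one_mem _) 0 (by rw [map_one, rowE_zero]; rfl) (add_zero 0)
    · exact step (a 0) (haT 0) 1 (by rw [ha, hα]; rfl) (CharTwo.add_self_eq_zero 1)
    · exact step (a 1) (haT 1) s (by rw [ha, hα]; rfl) (CharTwo.add_self_eq_zero s)
    · exact step (a 0 * a 1) (mul_mem (haT 0) (haT 1)) (1 + w)
        (by rw [map_mul, ha, ha, ← QuotientGroup.mk_mul, rowE_mul, hα, add_zero]; rfl)
        (CharTwo.add_self_eq_zero _)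
  have hKT : K ≤ T := by
    intro x hx
    obtain ⟨s, t, hst⟩ := mem_colG.1 hx
    have step : ∀ y ∈ T, ∀ s' : F, φ y = QuotientGroup.mk (colE s' 0) → s + s' = 0 → x ∈ T := by
      intro y hy s' hy' hs
      have : y * x ∈ R := hR _ t (by
        rw [map_mul, hy', hst, ← QuotientGroup.mk_mul, colE_mul, zero_add, add_comm, hs,
          rowE_zero_eq_colE])
      simpa using mul_mem (inv_mem hy) (hRT this)
    rcases hw s with rfl | rfl | rfl | rfl
    · exact step 1 (one_mem _) 0 (by rw [map_one, colE_zero]; rfl) (add_zero 0)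
    · exact step (b 0) (hbT 0) 1 (by rw [hb, hα]; rfl) (CharTwo.add_self_eq_zero 1)
    · exact step (b 1) (hbT 1) s (by rw [hb, hα]; rfl) (CharTwo.add_self_eq_zero s)
    · exact step (b 0 * b 1) (mul_mem (hbT 0) (hbT 1)) (1 + w)
        (by rw [map_mul, hb, hb, ← QuotientGroup.mk_mul, colE_mul, hα, add_zero]; rfl)
        (CharTwo.add_self_eq_zero _)
  have hRc : ∀ r ∈ R, ∀ x ∈ T, Commute r x := by
    intro r hr x hx
    induction hx using Subgroup.closure_induction with
    | mem x hx =>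
      rcases hx with (⟨i, rfl⟩ | ⟨i, rfl⟩) | hx
      exacts [hHc r hr.1 _ (haH i), hKc r hr.2 _ (hbK i), hHc r hr.1 x hx.1]
    | one => exact Commute.one_right r
    | mul x y _ _ hx hy => exact hx.mul_right hy
    | inv x _ hx => exact hx.inv_right
  let c : Fin 2 × Fin 2 → X := fun p => ⁅a p.1, b p.2⁆
  have hφc : ∀ p, φ (c p) = QuotientGroup.mk (rowE 0 (α p.1 * α p.2)) := by
    intro p
    change φ ⁅a p.1, b p.2⁆ = _
    rw [map_commutatorElement, ha, hb, commutatorElement_def, ← QuotientGroup.mk_mul, row_col_comm,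
      QuotientGroup.mk_mul, QuotientGroup.mk_mul]
    group
  have hcR : ∀ p, c p ∈ R := fun p => hR _ _ (hφc p)
  let C : Subgroup X := ⨆ p, Subgroup.zpowers (c p)
  have hCR : C ≤ R := iSup_le fun p => Subgroup.zpowers_le.2 (hcR p)
  have hcC : ∀ p, c p ∈ C := fun p => Subgroup.mem_iSup_of_mem p (Subgroup.mem_zpowers _)
  have hcard : Nat.card C ≤ 16 := by
    refine (card_iSup_zpowers_le c (fun p => hH2 _ (hcR p).1)
      (fun p q => hHc _ (hcR p).1 _ (hcR q).1)).trans ?_
    simp
  -- commutators of the generators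
  have hgen : ∀ x ∈ S, ∀ y ∈ S, ⁅x, y⁆ ∈ C := by
    have h1 : ∀ x y : X, Commute x y → ⁅x, y⁆ ∈ C := fun x y h => by
      rw [commutatorElement_eq_one_iff_commute.2 h]; exact one_mem _
    rintro x hx y hy
    rcases hx with (⟨i, rfl⟩ | ⟨i, rfl⟩) | hx
    · rcases hy with (⟨j, rfl⟩ | ⟨j, rfl⟩) | hy
      · exact h1 _ _ (hHc _ (haH i) _ (haH j))
      · exact hcC (i, j)
      · exact h1 _ _ (hRc y hy _ (haT i)).symm
    · rcases hy with (⟨j, rfl⟩ | ⟨j, rfl⟩) | hy
      · rw [← commutatorElement_inv]; exact inv_mem (hcC (j, i))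
      · exact h1 _ _ (hKc _ (hbK i) _ (hbK j))
      · exact h1 _ _ (hRc y hy _ (hbT i)).symm
    · exact h1 _ _ (hRc x hx y (Subgroup.subset_closure hy))
  have hone : ∀ x ∈ T, ∀ y ∈ S, ⁅x, y⁆ ∈ C := by
    intro x hx
    induction hx using Subgroup.closure_induction with
    | mem x hx => exact hgen x hx
    | one => intro y _; rw [commutatorElement_one_left]; exact one_mem _
    | mul x x' hx _ ih ih' =>
      intro y hy
      have e : ⁅x * x', y⁆ = x * ⁅x', y⁆ * x⁻¹ * ⁅x, y⁆ := by
        simp only [commutatorElement_def]; group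
      rw [e, ← (hRc _ (hCR (ih' y hy)) x hx).eq, mul_inv_cancel_right]
      exact mul_mem (ih' y hy) (ih y hy)
    | inv x hx ih =>
      intro y hy
      have e : ⁅x⁻¹, y⁆ = x⁻¹ * ⁅x, y⁆⁻¹ * x := by
        simp only [commutatorElement_def]; group
      rw [e, ← (hRc _ (hCR (inv_mem (ih y hy))) x⁻¹ (inv_mem hx)).eq, inv_mul_cancel_right]
      exact inv_mem (ih y hy)
  have hall : ∀ y ∈ T, ∀ x ∈ T, ⁅x, y⁆ ∈ C := by
    intro y hy
    induction hy using Subgroup.closure_induction with
    | mem y hy => exact fun x hx => hone x hx y hy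
    | one => intro x _; rw [commutatorElement_one_right]; exact one_mem _
    | mul y y' hy _ ih ih' =>
      intro x hx
      have e : ⁅x, y * y'⁆ = ⁅x, y⁆ * (y * ⁅x, y'⁆ * y⁻¹) := by
        simp only [commutatorElement_def]; group
      rw [e, ← (hRc _ (hCR (ih' x hx)) y hy).eq, mul_inv_cancel_right]
      exact mul_mem (ih x hx) (ih' x hx)
    | inv y hy ih =>
      intro x hx
      have e : ⁅x, y⁻¹⁆ = y⁻¹ * ⁅x, y⁆⁻¹ * y := by
        simp only [commutatorElement_def]; group
      rw [e, ← (hRc _ (hCR (inv_mem (ih x hx))) y⁻¹ (inv_mem hy)).eq, inv_mul_cancel_right]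
      exact inv_mem (ih x hx)
  have hTC : (commutator T).map T.subtype ≤ C := by
    rw [commutator_def, Subgroup.map_commutator, ← MonoidHom.range_eq_map, Subgroup.range_subtype,
      Subgroup.commutator_le]
    exact fun x hx y hy => hall y hy x hx
  -- `T` contains a Sylow 2-subgroup
  have hodd : Odd T.index := by
    obtain ⟨P, hP⟩ := exists_sylow_eq (n := 3) (F := F) 2 (by norm_num)
    have h1 : (U3).comap φ ≤ T := by
      rw [unitri_eq_sup, ← Subgroup.comap_sup_eq φ _ _ hφ]
      exact sup_le hHT hKT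
    have h2 : ((U3).comap φ).index = (P : Subgroup PSL3).index := by
      rw [Subgroup.index_comap_of_surjective _ hφ, hP]
    refine Nat.not_even_iff_odd.1 fun h => P.not_dvd_index ?_
    rw [← h2]
    exact (even_iff_two_dvd.1 h).trans (Subgroup.index_dvd_of_le h1)
  have hZC : Subgroup.center X ≤ C := by
    intro z hz
    let τ := MonoidHom.transfer (Abelianization.of : T →* Abelianization T)
    have hτ : τ z = 1 := MonoidHom.mem_ker.1
      (Abelianization.commutator_subset_ker τ (hperf ▸ Subgroup.mem_top z))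
    have hkey : ∀ (k : ℕ) (g₀ : X), g₀⁻¹ * z ^ k * g₀ ∈ T → g₀⁻¹ * z ^ k * g₀ = z ^ k :=
      fun k g₀ _ => by
        rw [mul_assoc, ← ((show Commute g₀ z from Subgroup.mem_center_iff.1 hz g₀).pow_right k).eq,
          inv_mul_cancel_left]
    have h2 := MonoidHom.transfer_eq_pow (Abelianization.of : T →* Abelianization T) z hkey
    change τ z = _ at h2
    rw [hτ] at h2
    have h3 : z ^ T.index ∈ (commutator T).map T.subtype := by
      have h4 := MonoidHom.mem_ker.2 h2.symm
      rw [Abelianization.ker_of] at h4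
      exact Subgroup.mem_map_of_mem T.subtype h4
    obtain ⟨m, hm⟩ := hodd
    rw [hm, pow_succ, pow_mul, pow_two, hZ z hz, one_pow, one_mul] at h3
    exact hTC h3
  -- the image of `C` has order at least 4
  have himg : ∀ t : F, (QuotientGroup.mk (rowE 0 t) : PSL3) ∈ C.map φ := by
    have h1 : (QuotientGroup.mk (rowE 0 1) : PSL3) ∈ C.map φ :=
      ⟨c (0, 0), hcC _, by rw [hφc, hα]; simp⟩
    have h2 : (QuotientGroup.mk (rowE 0 w) : PSL3) ∈ C.map φ :=
      ⟨c (0, 1), hcC _, by rw [hφc, hα]; simp⟩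
    intro t
    rcases hw t with rfl | rfl | rfl | rfl
    · rw [rowE_zero]; exact one_mem _
    · exact h1
    · exact h2
    · have := mul_mem h1 h2
      rwa [← QuotientGroup.mk_mul, rowE_mul, add_zero] at this
  choose L hLC hL using himg
  let f : Subgroup.center X × F → C := fun p => ⟨p.1 * L p.2, mul_mem (hZC p.1.2) (hLC p.2)⟩
  have hf : Function.Injective f := by
    rintro ⟨z, t⟩ ⟨z', t'⟩ h
    have h' : (z : X) * L t = z' * L t' := congrArg Subtype.val h
    have hz : φ z = 1 ∧ φ z' = 1 := ⟨(hker _).2 z.2, (hker _).2 z'.2⟩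
    have e := congrArg φ h'
    rw [map_mul, map_mul, hz.1, hz.2, one_mul, one_mul, hL, hL] at e
    have e' : (QuotientGroup.mk (rowE 0 (t + t')) : PSL3) = 1 := by
      rw [show rowE (0 : F) (t + t') = rowE 0 t * rowE 0 t' by rw [rowE_mul, add_zero],
        QuotientGroup.mk_mul, e, ← QuotientGroup.mk_mul, rowE_mul, CharTwo.add_self_eq_zero,
        CharTwo.add_self_eq_zero, rowE_zero]
      rfl
    obtain rfl : t = t' := CharTwo.add_eq_zero.1 (mk_row_eq_one e').2
    rw [mul_right_cancel_iff] at h'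
    rw [Subtype.ext h']
  have := Nat.card_le_card_of_injective f hf
  rw [Nat.card_prod, Nat.card_eq_fintype_card (α := F), hF] at this
  omega

end Cfsg.Agent.Perm.L34Cover
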