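import Cfsg.Agent.Lib.Perm.L34Cover.Model

/-!
The two elementary abelian subgroups in a central 2-extension of `L₃(4)`.
-/

set_option autoImplicit false
set_option linter.unusedSectionVars false

namespace Cfsg.Agent.Perm.L34Cover

open Matrix Cfsg.Agent.AutPSL.Roots Cfsg.Agent.AutPSL.Basic
open scoped commutatorElement

variable {F : Type*} [Field F] [Fintype F]

local notation "SL3" => Matrix.SpecialLinearGroup (Fin 3) F
local notation "SL2'" => Matrix.SpecialLinearGroup (Fin 2) F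
local notation "PSL3" => Matrix.ProjectiveSpecialLinearGroup (Fin 3) F
local notation "U3" => (unitri (n := 3) (F := F))

/-- what is used about the two elementary abelian subgroups -/
def Nice (A : Subgroup PSL3) : Prop :=
  Nat.card A = 16 ∧ A ≤ U3 ∧ (∀ x ∈ A, x * x = 1) ∧
    (∀ a ∈ A, ∀ b ∈ A, a ≠ 1 → b ≠ 1 →
      ∃ g ∈ Subgroup.normalizer (A : Set PSL3), g * a * g⁻¹ = b) ∧
    ∃ ι : SL2' →* PSL3, Function.Injective ι ∧ ι.range ≤ Subgroup.normalizer (A : Set PSL3) ∧
      ι.range ⊓ A = ⊥ ∧ Subgroup.normalizer (A : Set PSL3) ≤ A ⊔ ι.range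

theorem nice_row [CharP F 2] (hF : Fintype.card F = 4) : Nice (rowG (F := F)) := by
  refine ⟨card_rowG hF, ?_, ?_, ?_, blockPSL, blockPSL_injective, block_normalizes, block_inf_row,
    normalizer_row hF⟩
  · rw [unitri_eq_sup]; exact le_sup_left
  · intro x hx
    obtain ⟨a, c, rfl⟩ := mem_rowG.1 hx
    rw [← QuotientGroup.mk_mul, rowE_mul, CharTwo.add_self_eq_zero, CharTwo.add_self_eq_zero,
      rowE_zero]
    rfl
  · intro a ha b hb ha1 hb1
    obtain ⟨a₁, a₂, rfl⟩ := mem_rowG.1 ha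
    obtain ⟨b₁, b₂, rfl⟩ := mem_rowG.1 hb
    have nz : ∀ s t : F, (QuotientGroup.mk (rowE s t) : PSL3) ≠ 1 → s ≠ 0 ∨ t ≠ 0 := by
      intro s t h
      by_contra h'
      push Not at h'
      exact h (by rw [h'.1, h'.2, rowE_zero]; rfl)
    obtain ⟨g, hg, hg'⟩ := row_transitive (nz _ _ ha1)
    obtain ⟨h, hh, hh'⟩ := row_transitive (nz _ _ hb1)
    refine ⟨h * g⁻¹, mul_mem hh (inv_mem hg), ?_⟩
    rw [← hg', ← hh']
    group

theorem Nice.map {A : Subgroup PSL3} (hA : Nice A) (θ : MulAut PSL3) {B : Subgroup PSL3}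
    (hB : A.map θ.toMonoidHom = B) (hBU : B ≤ U3) : Nice B := by
  obtain ⟨hc, -, hsq, htr, ι, hι, hn, hi, hs⟩ := hA
  subst hB
  refine ⟨?_, hBU, ?_, ?_, θ.toMonoidHom.comp ι, θ.injective.comp hι, ?_, ?_, ?_⟩
  · rw [Subgroup.card_map_of_injective θ.injective]; exact hc
  · rintro _ ⟨x, hx, rfl⟩
    rw [← map_mul, hsq x hx, map_one]
  · rintro _ ⟨a, ha, rfl⟩ _ ⟨b, hb, rfl⟩ ha1 hb1
    obtain ⟨g, hg, hgab⟩ := htr a ha b hb (fun h => ha1 (by rw [h, map_one]))
      (fun h => hb1 (by rw [h, map_one]))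
    refine ⟨θ g, ?_, by rw [← hgab]; simp⟩
    rw [← Subgroup.map_equiv_normalizer_eq]
    exact Subgroup.mem_map_of_mem _ hg
  · rw [MonoidHom.range_comp, ← Subgroup.map_equiv_normalizer_eq]
    exact Subgroup.map_mono hn
  · rw [MonoidHom.range_comp, ← Subgroup.map_inf _ _ _ θ.injective, hi, Subgroup.map_bot]
  · rw [MonoidHom.range_comp, ← Subgroup.map_equiv_normalizer_eq, ← Subgroup.map_sup]
    exact Subgroup.map_mono hs

theorem exists_graph [CharP F 2] : ∃ θ : MulAut PSL3, (rowG (F := F)).map θ.toMonoidHom = colG := by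
  let J : GL (Fin 3) F := ⟨!![0, 0, 1; 0, 1, 0; 1, 0, 0], !![0, 0, 1; 0, 1, 0; 1, 0, 0],
    by ext i j; fin_cases i <;> fin_cases j <;> simp [Matrix.mul_apply, Fin.sum_univ_three],
    by ext i j; fin_cases i <;> fin_cases j <;> simp [Matrix.mul_apply, Fin.sum_univ_three]⟩
  have hJ : ((J : GL (Fin 3) F) : Matrix (Fin 3) (Fin 3) F) = !![0, 0, 1; 0, 1, 0; 1, 0, 0] := rfl
  have hJ' : ((J⁻¹ : GL (Fin 3) F) : Matrix (Fin 3) (Fin 3) F) = !![0, 0, 1; 0, 1, 0; 1, 0, 0] := rfl
  refine ⟨(iota (n := 3) (F := F)).trans (gAut J), ?_⟩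
  have key : ∀ a c : F, conjSL J (iotaSL (rowE a c)) = colE (-a) (-c) := by
    intro a c
    have hinv : (rowE a c)⁻¹ = rowE (-a) (-c) := by
      refine inv_eq_of_mul_eq_one_right ?_
      rw [rowE_mul, add_neg_cancel, add_neg_cancel, rowE_zero]
    refine Subtype.ext ?_
    rw [conjSL_coe, iotaSL_coe, hinv, hJ, hJ']
    ext i j
    fin_cases i <;> fin_cases j <;>
      simp [rowE_coe, colE_coe, Matrix.mul_apply, Matrix.vecMul, Matrix.transpose_apply, dotProduct,
        Fin.sum_univ_three]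
  have key' : ∀ a c : F, ((iota (n := 3) (F := F)).trans (gAut J)) (QuotientGroup.mk (rowE a c)) =
      (QuotientGroup.mk (colE (-a) (-c)) : PSL3) := fun a c => by
    rw [← key a c]; rfl
  ext x
  constructor
  · rintro ⟨y, hy, rfl⟩
    obtain ⟨a, c, rfl⟩ := mem_rowG.1 hy
    exact mem_colG.2 ⟨_, _, key' a c⟩
  · intro hx
    obtain ⟨b, c, rfl⟩ := mem_colG.1 hx
    refine ⟨_, mem_rowG.2 ⟨-b, -c, rfl⟩, ?_⟩
    change ((iota (n := 3) (F := F)).trans (gAut J)) _ = _
    rw [key', neg_neg, neg_neg]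

theorem nice_col [CharP F 2] (hF : Fintype.card F = 4) : Nice (colG (F := F)) := by
  obtain ⟨θ, hθ⟩ := exists_graph (F := F)
  exact (nice_row hF).map θ hθ (by rw [unitri_eq_sup]; exact le_sup_right)

theorem sl2_sq [CharP F 2] (g : SL2') (h : g * g * (g * g) = 1) : g * g = 1 := by
  have hdet : (g : Matrix (Fin 2) (Fin 2) F) 0 0 * (g : Matrix (Fin 2) (Fin 2) F) 1 1 -
      (g : Matrix (Fin 2) (Fin 2) F) 0 1 * (g : Matrix (Fin 2) (Fin 2) F) 1 0 = 1 := by
    rw [← Matrix.det_fin_two]; exact g.2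
  set a := (g : Matrix (Fin 2) (Fin 2) F) 0 0 with ha
  set b := (g : Matrix (Fin 2) (Fin 2) F) 0 1 with hb
  set c := (g : Matrix (Fin 2) (Fin 2) F) 1 0 with hc
  set d := (g : Matrix (Fin 2) (Fin 2) F) 1 1 with hd
  have h00 := congrFun (congrFun (congrArg Subtype.val h) 0) 0
  have h01 := congrFun (congrFun (congrArg Subtype.val h) 0) 1
  have h10 := congrFun (congrFun (congrArg Subtype.val h) 1) 0
  have h11 := congrFun (congrFun (congrArg Subtype.val h) 1) 1
  simp [Matrix.SpecialLinearGroup.coe_mul, Matrix.mul_apply, Fin.sum_univ_two, ← ha, ← hb, ← hc, ← hd]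
    at h00 h01 h10 h11
  have h2 : (2 : F) = 0 := CharTwo.two_eq_zero
  -- the trace vanishes
  have ht : (a + d) ^ 4 = 0 := by
    linear_combination h00 + h11 +
      (1 + 2 * (a + d) ^ 2 * (a * d - b * c) - (a * d - b * c) ^ 2) * h2
  have ht' : a + d = 0 := eq_zero_of_pow_eq_zero ht
  refine Subtype.ext ?_
  ext i j
  fin_cases i <;> fin_cases j <;>
    simp [Matrix.SpecialLinearGroup.coe_mul, Matrix.mul_apply, Fin.sum_univ_two, ← ha, ← hb, ← hc, ← hd]
  · linear_combination a * ht' - hdet - h2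
  · linear_combination b * ht'
  · linear_combination c * ht'
  · linear_combination d * ht' - hdet - h2

theorem sl2_exponent [CharP F 2] : ∀ (k : ℕ) (g : SL2'), g ^ (2 ^ k) = 1 → g * g = 1
  | 0, g, h => by rw [pow_zero, pow_one] at h; rw [h, one_mul]
  | k + 1, g, h => by
    rw [pow_succ', pow_mul, pow_two] at h
    exact sl2_sq g (sl2_exponent k _ h)

variable {X : Type*} [Group X] [Finite X] {φ : X →* Matrix.ProjectiveSpecialLinearGroup (Fin 3) F}

theorem squares (hφ : Function.Surjective φ) (hker : ∀ x, φ x = 1 ↔ x ∈ Subgroup.center X)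
    (hZ : ∀ z ∈ Subgroup.center X, z * z = 1) {A : Subgroup PSL3} (hA : Nice A) {h : X}
    (hh : φ h ∈ A) : h * h = 1 := by
  obtain ⟨hcard, -, hsq, htr, -⟩ := hA
  have hcen : ∀ x, φ x ∈ A → x * x ∈ Subgroup.center X := fun x hx =>
    (hker _).1 (by rw [map_mul]; exact hsq _ hx)
  have hconst : ∀ x y, φ x ∈ A → φ y ∈ A → φ x ≠ 1 → φ y ≠ 1 → x * x = y * y := by
    intro x y hx hy hx1 hy1
    obtain ⟨g, -, hgxy⟩ := htr _ hx _ hy hx1 hy1
    obtain ⟨g', rfl⟩ := hφ g
    have hz : g' * x * g'⁻¹ * y⁻¹ ∈ Subgroup.center X :=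
      (hker _).1 (by rw [map_mul, map_mul, map_mul, map_inv, map_inv, hgxy, mul_inv_cancel])
    set z := g' * x * g'⁻¹ * y⁻¹ with hzdef
    have e : g' * x * g'⁻¹ = z * y := by rw [hzdef]; group
    have e2 : g' * (x * x) * g'⁻¹ = x * x := by
      rw [Subgroup.mem_center_iff.1 (hcen x hx) g', mul_inv_cancel_right]
    calc x * x = (g' * x * g'⁻¹) * (g' * x * g'⁻¹) := by rw [← e2]; group
      _ = z * y * (z * y) := by rw [e]
      _ = z * (z * (y * y)) := by
          rw [mul_assoc, ← mul_assoc y z y, Subgroup.mem_center_iff.1 hz y, mul_assoc z y y]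
      _ = y * y := by rw [← mul_assoc, hZ z hz, one_mul]
  by_cases h1 : φ h = 1
  · exact hZ h ((hker h).1 h1)
  -- two further elements
  have hex : ∀ (S : Finset PSL3), S.card < 16 → ∃ a ∈ A, a ∉ S := by
    intro S hS
    by_contra hcon
    push Not at hcon
    have h16 := Set.ncard_le_ncard (show (A : Set PSL3) ⊆ S from hcon) S.finite_toSet
    rw [Set.ncard_coe_finset, ← Nat.card_coe_set_eq] at h16
    change Nat.card A ≤ S.card at h16
    omega
  classical
  obtain ⟨b, hb, hbS⟩ := hex {1, φ h} (lt_of_le_of_lt Finset.card_le_two (by norm_num))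
  obtain ⟨d, hd, hdS⟩ := hex {1, φ h, b, φ h * b}
    (lt_of_le_of_lt Finset.card_le_four (by norm_num))
  obtain ⟨y, rfl⟩ := hφ b
  obtain ⟨u, rfl⟩ := hφ d
  simp only [Finset.mem_insert, Finset.mem_singleton, not_or] at hbS hdS
  set c := h * h with hc
  have hcc : c ∈ Subgroup.center X := hcen h hh
  have hinv : ∀ x : X, φ x ∈ A → φ x⁻¹ = φ x := fun x hx => by
    rw [map_inv, inv_eq_of_mul_eq_one_left (hsq _ hx)]
  have hne : ∀ p q : X, φ p ∈ A → φ q ∈ A → φ q ≠ φ p → φ (p * q) ≠ 1 := by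
    intro p q hp hq hpq hpq1
    rw [map_mul] at hpq1
    exact hpq ((inv_eq_of_mul_eq_one_right hpq1).symm.trans ((map_inv φ p).symm.trans (hinv p hp)))
  -- the commutator of two independent elements is the constant
  have hswap : ∀ p q : X, φ p ∈ A → φ q ∈ A → φ p ≠ 1 → φ q ≠ 1 → φ q ≠ φ p →
      q * p = p * q * c := by
    intro p q hp hq hp1 hq1 hpq
    have hpq' : φ (p * q) ∈ A := by rw [map_mul]; exact mul_mem hp hq
    have e1 : p * p = c := hconst p h hp hh hp1 h1
    have e2 : q * q = c := hconst q h hq hh hq1 h1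
    have e3 : p * q * (p * q) = c := hconst _ h hpq' hh (hne p q hp hq hpq) h1
    have e4 : q * p = p⁻¹ * c * q⁻¹ := by rw [← e3]; group
    have hp' : p⁻¹ = p * c := by
      refine inv_eq_of_mul_eq_one_right ?_
      rw [← mul_assoc, e1]; exact hZ c hcc
    have hq' : q⁻¹ = q * c := by
      refine inv_eq_of_mul_eq_one_right ?_
      rw [← mul_assoc, e2]; exact hZ c hcc
    rw [e4, hp', hq', mul_assoc p c c, hZ c hcc, mul_one, mul_assoc]
  have hhy : φ (h * y) ∈ A := by rw [map_mul]; exact mul_mem hh hb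
  have s1 := hswap (h * y) u hhy hd (hne h y hh hb hbS.2) hdS.1 (by rw [map_mul]; exact hdS.2.2.2)
  have s2 := hswap h u hh hd h1 hdS.1 hdS.2.1
  have s3 := hswap y u hb hd hbS.1 hdS.1 hdS.2.2.1
  have hcy := Subgroup.mem_center_iff.1 hcc y
  have key : h * y * u * c = h * y * u * 1 := by
    calc h * y * u * c = u * (h * y) := s1.symm
      _ = h * u * c * y := by rw [← mul_assoc, s2]
      _ = h * (u * y) * c := by rw [mul_assoc (h * u), ← hcy]; group
      _ = h * y * u * (c * c) := by rw [s3]; group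
      _ = h * y * u * 1 := by rw [hZ c hcc]
  exact mul_left_cancel key

theorem squares_all [CharP F 2] (hF : Fintype.card F = 4) (hφ : Function.Surjective φ)
    (hker : ∀ x, φ x = 1 ↔ x ∈ Subgroup.center X) (hZ : ∀ z ∈ Subgroup.center X, z * z = 1)
    {h : X} (hh : φ h * φ h = 1) : h * h = 1 := by
  haveI : Fact (Nat.Prime 2) := ⟨Nat.prime_two⟩
  obtain ⟨P, hP⟩ := exists_sylow_eq (n := 3) (F := F) 2 (by norm_num)
  have hp : IsPGroup 2 (Subgroup.zpowers (φ h)) := by
    rintro ⟨y, hy⟩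
    obtain ⟨k, rfl⟩ := hy
    exact ⟨1, Subtype.ext (by
      change ((φ h) ^ k) ^ (2 ^ 1) = 1
      rw [pow_one, pow_two, ← (Commute.refl (φ h)).mul_zpow, hh, _root_.one_zpow])⟩
  obtain ⟨Q, hQ⟩ := hp.exists_le_sylow
  obtain ⟨g, hg⟩ := MulAction.exists_smul_eq PSL3 Q P
  have hmem : g * φ h * g⁻¹ ∈ U3 := by
    rw [← hP, ← hg]
    exact ⟨φ h, hQ (Subgroup.mem_zpowers _), rfl⟩
  have hsq : g * φ h * g⁻¹ * (g * φ h * g⁻¹) = 1 := by
    calc g * φ h * g⁻¹ * (g * φ h * g⁻¹) = g * (φ h * φ h) * g⁻¹ := by group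
      _ = 1 := by rw [hh, mul_one, mul_inv_cancel]
  obtain ⟨g', rfl⟩ := hφ g
  have hsq' : g' * h * g'⁻¹ * (g' * h * g'⁻¹) = 1 := by
    have hm : φ (g' * h * g'⁻¹) ∈ U3 := by rw [map_mul, map_mul, map_inv]; exact hmem
    have hm' : φ (g' * h * g'⁻¹) * φ (g' * h * g'⁻¹) = 1 := by
      rw [map_mul, map_mul, map_inv]; exact hsq
    rcases involution_mem hm hm' with h' | h'
    · exact squares hφ hker hZ (nice_row hF) h'
    · exact squares hφ hker hZ (nice_col hF) h'
  have e : g' * (h * h) * g'⁻¹ = 1 := by rw [← hsq']; group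
  calc h * h = g'⁻¹ * (g' * (h * h) * g'⁻¹) * g' := by group
    _ = 1 := by rw [e]; group

theorem exists_lift_complement [CharP F 2] (hF : Fintype.card F = 4) (hφ : Function.Surjective φ)
    (hker : ∀ x, φ x = 1 ↔ x ∈ Subgroup.center X) (hZ : ∀ z ∈ Subgroup.center X, z * z = 1)
    {A : Subgroup PSL3} (hA : Nice A) :
    ∃ C : Subgroup X, C ≤ Subgroup.normalizer ((A.comap φ : Subgroup X) : Set X) ∧ C ⊓ A.comap φ = ⊥ ∧
      A.comap φ ⊔ C = Subgroup.normalizer ((A.comap φ : Subgroup X) : Set X) ∧ Nonempty (C ≃* SL2') := by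
  haveI : Fact (Nat.Prime 2) := ⟨Nat.prime_two⟩
  obtain ⟨-, -, -, -, ι, hι, hn, hi, hs⟩ := hA
  let P₀ : Subgroup X := ι.range.comap φ
  let C : Subgroup X := (commutator P₀).map P₀.subtype
  obtain ⟨a, ha0, ha1⟩ : ∃ a : F, a ≠ 0 ∧ a ≠ 1 := by
    classical
    by_contra h
    push Not at h
    have hsub : (Finset.univ : Finset F) ⊆ {0, 1} := fun a _ => by
      rw [Finset.mem_insert, Finset.mem_singleton]
      exact or_iff_not_imp_left.2 (h a)
    have := (Finset.card_le_card hsub).trans Finset.card_le_two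
    rw [Finset.card_univ, hF] at this
    omega
  have hperf : commutator SL2' = ⊤ := Matrix.SL2.commutator_eq_top ha0 (fun h => ha1 (by
    have h' : (a + 1) * (a + 1) = 0 := by
      rw [CharTwo.add_mul_self, ← pow_two, h, one_mul, CharTwo.add_self_eq_zero]
    exact CharTwo.add_eq_zero.1 (mul_self_eq_zero.1 h')))
  -- the image
  have himg : C.map φ = ι.range := by
    have h1 : (⊤ : Subgroup P₀).map (φ.comp P₀.subtype) = ι.range := by
      rw [← MonoidHom.range_eq_map, MonoidHom.range_comp, Subgroup.range_subtype]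
      exact Subgroup.map_comap_eq_self_of_surjective hφ _
    rw [Subgroup.map_map, commutator_def, Subgroup.map_commutator, h1, MonoidHom.range_eq_map,
      ← Subgroup.map_commutator, ← commutator_def, hperf]
  -- squares in the Sylow subgroup
  obtain ⟨S⟩ : Nonempty (Sylow 2 P₀) := inferInstance
  have hS2 : ∀ s ∈ (S : Subgroup P₀), s * s = 1 := by
    intro s hs
    obtain ⟨k, hk⟩ := S.isPGroup' ⟨s, hs⟩
    obtain ⟨g, hg⟩ := (show φ s.1 ∈ ι.range from s.2)
    have hk' : (s.1 : X) ^ (2 ^ k) = 1 := by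
      have := congrArg (fun t : (S : Subgroup P₀) => ((t : P₀) : X)) hk
      simpa using this
    have hgk : g ^ (2 ^ k) = 1 := hι (by rw [map_pow, hg, ← map_pow, hk', map_one, map_one])
    refine Subtype.ext (squares_all hF hφ hker hZ ?_)
    rw [← hg, ← map_mul, sl2_exponent k g hgk, map_one]
  have hScomm : ∀ x y : (S : Subgroup P₀), x * y = y * x := by
    intro x y
    have h1 : ∀ t : (S : Subgroup P₀), t⁻¹ = t := fun t =>
      inv_eq_of_mul_eq_one_left (Subtype.ext (hS2 _ t.2))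
    calc x * y = (x * y)⁻¹ := (h1 _).symm
      _ = y * x := by rw [_root_.mul_inv_rev, h1, h1]
  letI : CommGroup (S : Subgroup P₀) :=
    { (inferInstance : Group (S : Subgroup P₀)) with mul_comm := hScomm }
  have hinj : ∀ c ∈ C, φ c = 1 → c = 1 := by
    rintro _ ⟨d, hd, rfl⟩ h1
    have hdZ : (d : X) ∈ Subgroup.center X := (hker _).1 h1
    have hdc : ∀ g : P₀, g * d = d * g := fun g => Subtype.ext (Subgroup.mem_center_iff.1 hdZ g.1)
    have hdd : d * d = 1 := Subtype.ext (hZ _ hdZ)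
    let τ := MonoidHom.transfer (MonoidHom.id (S : Subgroup P₀))
    have hτ : τ d = 1 := MonoidHom.mem_ker.1 (Abelianization.commutator_subset_ker τ hd)
    have hkey : ∀ (k : ℕ) (g₀ : P₀), g₀⁻¹ * d ^ k * g₀ ∈ (S : Subgroup P₀) →
        g₀⁻¹ * d ^ k * g₀ = d ^ k := fun k g₀ _ => by
      rw [mul_assoc, ← ((show Commute g₀ d from hdc g₀).pow_right k).eq, inv_mul_cancel_left]
    have h2 := MonoidHom.transfer_eq_pow (MonoidHom.id (S : Subgroup P₀)) d hkey
    change τ d = _ at h2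
    rw [hτ] at h2
    have h3 : d ^ (S : Subgroup P₀).index = 1 := (congrArg Subtype.val h2).symm
    obtain ⟨m, hm⟩ : Odd (S : Subgroup P₀).index :=
      Nat.not_even_iff_odd.1 fun h => S.not_dvd_index (even_iff_two_dvd.1 h)
    rw [hm, pow_succ, pow_mul, pow_two, hdd, one_pow, one_mul] at h3
    rw [h3, map_one]
  refine ⟨C, ?_, ?_, ?_, ?_⟩
  · intro c hc
    have : φ c ∈ Subgroup.normalizer (A : Set PSL3) := hn (himg ▸ Subgroup.mem_map_of_mem φ hc)
    rw [← Subgroup.comap_normalizer_eq_of_surjective A hφ]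
    exact this
  · rw [eq_bot_iff]
    rintro c ⟨hc, hcA⟩
    have : φ c ∈ ι.range ⊓ A := ⟨himg ▸ Subgroup.mem_map_of_mem φ hc, hcA⟩
    rw [hi, Subgroup.mem_bot] at this
    exact Subgroup.mem_bot.2 (hinj c hc this)
  · rw [← Subgroup.comap_normalizer_eq_of_surjective A hφ]
    refine le_antisymm ?_ ?_
    · refine sup_le (Subgroup.comap_mono Subgroup.le_normalizer) ?_
      intro c hc
      exact hn (himg ▸ Subgroup.mem_map_of_mem φ hc)
    · intro x hx
      have hx' : φ x ∈ A ⊔ ι.range := hs hx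
      have e : A ⊔ ι.range = (A.comap φ ⊔ C).map φ := by
        rw [Subgroup.map_sup, himg, Subgroup.map_comap_eq_self_of_surjective hφ]
      rw [e] at hx'
      obtain ⟨y, hy, hyx⟩ := hx'
      have hk : y⁻¹ * x ∈ A.comap φ := by
        rw [Subgroup.mem_comap, map_mul, map_inv, hyx, inv_mul_cancel]
        exact one_mem _
      have := mul_mem hy (Subgroup.mem_sup_left (T := C) hk)
      rwa [mul_inv_cancel_left] at this
  · have hinj' : Function.Injective (φ.comp C.subtype) := by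
      rw [injective_iff_map_eq_one]
      exact fun c hc => Subtype.ext (hinj c.1 c.2 hc)
    have hr : (φ.comp C.subtype).range = ι.range := by
      rw [MonoidHom.range_comp, Subgroup.range_subtype, himg]
    exact ⟨((MonoidHom.ofInjective hinj').trans (MulEquiv.subgroupCongr hr)).trans
      (MonoidHom.ofInjective hι).symm⟩

end Cfsg.Agent.Perm.L34Cover
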